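import Cfsg.Agent.H11.CTI.Final
import Cfsg.Agent.H11.SzUniq.Iso
import Cfsg.Agent.S0042

/-!
A finite non-solvable group whose maximal solvable subgroups carry a "Frobenius system" satisfies
`H11.CTI.Even'`, hence is `SL₂(2ⁿ)` or a Suzuki group.
-/

set_option autoImplicit false
set_option linter.style.haveILetI false
set_option linter.unusedSectionVars false

namespace H11.FrobSys

open Subgroup
open scoped Pointwise commutatorElement

universe u

variable {G : Type u} [Group G] [Finite G]

/-- A maximal solvable subgroup. -/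
def MaxS (M : Subgroup G) : Prop :=
  Group.IsSolvable M ∧ ∀ M' : Subgroup G, M < M' → ¬ Group.IsSolvable M'

/-- A Frobenius system. -/
def FSys (F : Subgroup G → Subgroup G) : Prop :=
  ∀ M : Subgroup G, (Group.IsSolvable M ∧ ∀ M' : Subgroup G, M < M' → ¬ Group.IsSolvable M') →
      F M ≤ M ∧ M ≤ normalizer (F M : Set G) ∧
      (∀ a ∈ M, a ∉ F M → ∀ x ∈ F M, x * a = a * x → x = 1) ∧
      (∀ g : G, g ∉ M → F M ⊓ (MulAut.conj g • F M) = ⊥) ∧
      (F M ≠ ⊥ ∨ IsMulCommutative M)

theorem mem_conj_smul {H : Subgroup G} {g x : G} :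
    x ∈ MulAut.conj g • H ↔ g⁻¹ * x * g ∈ H := H2.mem_conj_smul

theorem exists_maxS {H : Subgroup G} (hH : Group.IsSolvable H) : ∃ M, H ≤ M ∧ MaxS M := by
  obtain ⟨M, hle, hM⟩ :=
    Finite.exists_le_maximal (p := fun K : Subgroup G => Group.IsSolvable K) hH
  exact ⟨M, hle, hM.1, fun M' hlt h => hlt.not_ge (hM.2 h hlt.le)⟩

theorem solvable_sup (A M : Subgroup G) [A.Normal] [Group.IsSolvable A] [Group.IsSolvable M] :
    Group.IsSolvable (A ⊔ M : Subgroup G) := by
  set f := QuotientGroup.mk' A with hf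
  haveI : Group.IsSolvable (M.map f) :=
    Group.isSolvable_of_surjective (f := f.subgroupMap M) (f.subgroupMap_surjective M)
  have hmap : (A ⊔ M).map f = M.map f := by
    rw [Subgroup.map_sup, (map_eq_bot_iff A).2 (QuotientGroup.ker_mk' A).ge, bot_sup_eq]
  refine Group.isSolvable_of_ker_le_range (Subgroup.inclusion (le_sup_left : A ≤ A ⊔ M))
    ((f.comp (A ⊔ M : Subgroup G).subtype).codRestrict (M.map f)
      fun x => hmap ▸ mem_map_of_mem f x.2) ?_
  intro x hx
  have h1 : f (x : G) = 1 := congrArg Subtype.val (MonoidHom.mem_ker.1 hx)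
  have h2 : (x : G) ∈ A := (QuotientGroup.eq_one_iff _).1 h1
  exact ⟨⟨x, h2⟩, rfl⟩

/-- A group with no abelian normal subgroup has no normal subgroup of odd order. -/
theorem even_of_no_abelian (hab : ∀ A : Subgroup G, A.Normal →
      (∀ a ∈ A, ∀ b ∈ A, a * b = b * a) → A = ⊥)
    (K : Subgroup G) [K.Normal] (hK : K ≠ ⊥) : ∃ t ∈ K, orderOf t = 2 := by
  refine H65.exists_two_mem ?_
  rw [← Nat.not_odd_iff_even]
  intro hodd
  haveI := H16.FT.oddOrder (G := K) hodd
  haveI : Nontrivial K := (nontrivial_iff_ne_bot K).2 hK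
  obtain ⟨n, hn⟩ := (Group.isSolvable_def K).1 inferInstance
  classical
  have hex : ∃ n, derivedSeries K n = ⊥ := ⟨n, hn⟩
  have h0 : Nat.find hex ≠ 0 := fun h => by
    have := Nat.find_spec hex
    rw [h, derivedSeries_zero] at this
    exact top_ne_bot this
  obtain ⟨m, hm⟩ := Nat.exists_eq_succ_of_ne_zero h0
  refine Nat.find_min hex (m := m) (by omega) ?_
  have := hab ((derivedSeries K m).map K.subtype) inferInstance (by
    rintro _ ⟨a, ha, rfl⟩ _ ⟨b, hb, rfl⟩
    have h1 : ⁅a, b⁆ ∈ derivedSeries K (m + 1) := by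
      rw [derivedSeries_succ]
      exact commutator_mem_commutator ha hb
    rw [show m + 1 = Nat.find hex from hm.symm, Nat.find_spec hex, mem_bot] at h1
    rw [← map_mul, commutatorElement_eq_one_iff_mul_comm.1 h1, map_mul])
  rwa [map_eq_bot_iff_of_injective _ K.subtype_injective] at this

variable {F : Subgroup G → Subgroup G} (h : FSys F) (hns : ¬ Group.IsSolvable G)

include h hns

omit h in
theorem ne_top {M : Subgroup G} (hM : MaxS M) : M ≠ ⊤ := by
  rintro rfl
  haveI := hM.1
  exact hns (Group.isSolvable_of_surjective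
    (f := (topEquiv : (⊤ : Subgroup G) ≃* G).toMonoidHom) (topEquiv : (⊤ : Subgroup G) ≃* G).surjective)

omit hns in
theorem norm_eq {M : Subgroup G} (hM : MaxS M) (hF : F M ≠ ⊥) :
    normalizer (F M : Set G) = M := by
  obtain ⟨-, hn, -, hti, -⟩ := h M hM
  refine le_antisymm (fun g hg => ?_) hn
  by_contra hgM
  refine hF (le_bot_iff.1 ?_)
  rw [← hti g hgM]
  refine le_inf le_rfl fun x hx => ?_
  rw [mem_conj_smul]
  exact (mem_normalizer_iff''.1 hg x).1 hx

omit hns in
theorem cent_le {M : Subgroup G} (hM : MaxS M) {x : G} (hx : x ∈ F M) (hx1 : x ≠ 1) :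
    centralizer ({x} : Set G) ≤ F M := by
  obtain ⟨-, -, hfpf, hti, -⟩ := h M hM
  intro g hg
  have hgx : g * x = x * g := mem_centralizer_singleton_iff.1 hg
  have hgM : g ∈ M := by
    by_contra hgM
    refine hx1 (mem_bot.1 (hti g hgM ▸ mem_inf.2 ⟨hx, ?_⟩))
    rw [mem_conj_smul, show g⁻¹ * x * g = g⁻¹ * (x * g) by group, ← hgx, inv_mul_cancel_left]
    exact hx
  by_contra hgF
  exact hx1 (hfpf g hgM hgF x hx hgx.symm)

/-- The normaliser of a Sylow 2-subgroup lies in a maximal solvable subgroup with `F ≠ 1`. -/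
theorem exists_good (S : Sylow 2 G) :
    ∃ M : Subgroup G, MaxS M ∧ (S : Subgroup G) ≤ M ∧ F M ≠ ⊥ := by
  set N := normalizer ((S : Subgroup G) : Set G) with hN
  have hSN : (S : Subgroup G) ≤ N := le_normalizer
  haveI : ((S : Subgroup G).subgroupOf N).Normal := normal_subgroupOf_of_le_normalizer le_rfl
  haveI : Group.IsSolvable ((S : Subgroup G).subgroupOf N) := by
    haveI := (S.isPGroup'.comap_subtype (K := N)).isNilpotent
    exact inferInstanceAs (Group.IsSolvable ((S : Subgroup G).comap N.subtype))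
  haveI : Group.IsSolvable (N ⧸ (S : Subgroup G).subgroupOf N) := by
    refine H16.FT.oddOrder (Nat.not_even_iff_odd.1 fun he => S.not_dvd_index ?_)
    exact (even_iff_two_dvd.1 he).trans (relIndex_dvd_index_of_le hSN)
  have hsolN : Group.IsSolvable N := Group.isSolvable_of_ker_le_range
    ((S : Subgroup G).subgroupOf N).subtype (QuotientGroup.mk' ((S : Subgroup G).subgroupOf N))
    (by simp)
  obtain ⟨M, hNM, hM⟩ := exists_maxS hsolN
  refine ⟨M, hM, hSN.trans hNM, fun hF => ?_⟩
  haveI := (h M hM).2.2.2.2.resolve_left (not_not.2 hF)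
  have hcent : N ≤ centralizer ((S : Subgroup G) : Set G) := fun g hg =>
    mem_centralizer_iff.2 fun s hs => congrArg Subtype.val
      (mul_comm' (⟨s, hNM (hSN hs)⟩ : M) ⟨g, hNM hg⟩)
  set K := (MonoidHom.transferSylow S hcent).ker with hK
  haveI : Group.IsSolvable K := H16.FT.oddOrder (Nat.not_even_iff_odd.1 fun he =>
    MonoidHom.not_dvd_card_ker_transferSylow S hcent (even_iff_two_dvd.1 he))
  haveI : Group.IsSolvable (S : Subgroup G) := by
    haveI := S.isPGroup'.isNilpotent
    infer_instance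
  exact hns (Group.isSolvable_of_ker_le_range K.subtype (MonoidHom.transferSylow S hcent)
    (by rw [Subgroup.range_subtype]))

/-- No abelian normal subgroup. -/
theorem abelian_normal_eq_bot (A : Subgroup G) [A.Normal]
    (hAc : ∀ a ∈ A, ∀ b ∈ A, a * b = b * a) : A = ⊥ := by
  let S : Sylow 2 G := default
  obtain ⟨M, hM, -, hF⟩ := exists_good h hns S
  obtain ⟨hFM, hn, -, hti, -⟩ := h M hM
  haveI := hM.1
  haveI : Group.IsSolvable A := Group.isSolvable_of_comm fun a b =>
    Subtype.ext (hAc a a.2 b b.2)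
  have hAM : A ≤ M := by
    by_contra hAM
    exact hM.2 _ (lt_of_le_of_ne le_sup_right fun e => hAM (e ▸ le_sup_left))
      (solvable_sup A M)
  by_contra hA
  have hAF : A ≤ F M := by
    by_cases hAF : A ⊓ F M = ⊥
    · haveI := (nontrivial_iff_ne_bot (F M)).2 hF
      obtain ⟨⟨x, hx⟩, hx1⟩ := exists_ne (1 : F M)
      have hx1' : x ≠ 1 := fun e => hx1 (Subtype.ext e)
      intro a ha
      refine cent_le h hM hx hx1' (mem_centralizer_singleton_iff.2 ?_)
      have h1 : a * x * a⁻¹ * x⁻¹ ∈ A ⊓ F M := by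
        have h0 : a * x * a⁻¹ ∈ F M := ((mem_normalizer_iff.1 (hn (hAM ha))) x).1 hx
        refine ⟨?_, (F M).mul_mem h0 ((F M).inv_mem hx)⟩
        rw [show a * x * a⁻¹ * x⁻¹ = a * (x * a⁻¹ * x⁻¹) by group]
        exact mul_mem ha ((inferInstance : A.Normal).conj_mem _ (inv_mem ha) x)
      rw [hAF, mem_bot, mul_inv_eq_one, mul_inv_eq_iff_eq_mul] at h1
      exact h1
    · haveI := (nontrivial_iff_ne_bot (A ⊓ F M : Subgroup G)).2 hAF
      obtain ⟨⟨x, hx⟩, hx1⟩ := exists_ne (1 : (A ⊓ F M : Subgroup G))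
      intro a ha
      exact cent_le h hM hx.2 (fun e => hx1 (Subtype.ext e))
        (mem_centralizer_singleton_iff.2 (hAc a ha x hx.1))
  obtain ⟨g, hg⟩ : ∃ g : G, g ∉ M := by
    by_contra hall
    push Not at hall
    exact ne_top hns hM (eq_top_iff.2 fun g _ => hall g)
  refine hA (le_bot_iff.1 (hti g hg ▸ le_inf hAF fun a ha => ?_))
  rw [mem_conj_smul]
  refine hAF ?_
  simpa using (inferInstance : A.Normal).conj_mem a ha g⁻¹

/-- An isolated involution does not exist. -/
theorem not_isolated {t : G} (ht : Cfsg.IsIsolatedInvolution t) : False := by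
  haveI := H1.pPrimeCore_characteristic 2 G
  have hcore : Cfsg.pPrimeCore 2 G = ⊥ := by
    by_contra hne
    obtain ⟨x, hx, hx2⟩ :=
      even_of_no_abelian (fun A hA hc => @abelian_normal_eq_bot _ _ _ _ h hns A hA hc) _ hne
    have hd : orderOf x ∣ Nat.card (Cfsg.pPrimeCore 2 G) := Subgroup.orderOf_dvd_natCard _ hx
    rw [hx2] at hd
    exact Nat.prime_two.coprime_iff_not_dvd.1 (H1.card_pPrimeCore_coprime 2 G).symm hd
  have hc : t ∈ center G := mem_center_iff.2 fun g => by
    have := H85.zStar ht g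
    rw [hcore, mem_bot] at this
    exact (mul_inv_eq_iff_eq_mul.1 (mul_inv_eq_one.1 this)).symm
  rw [abelian_normal_eq_bot h hns (center G) fun a _ b hb => mem_center_iff.1 hb a,
    mem_bot] at hc
  have h2 := ht.1
  rw [hc, orderOf_one] at h2
  norm_num at h2

omit hns in
/-- `F M` has order coprime to its index in `M`. -/
theorem coprime_index {M : Subgroup G} (hM : MaxS M) :
    (Nat.card (F M)).Coprime ((F M).subgroupOf M).index := by
  obtain ⟨hFM, hn, -, -, -⟩ := h M hM
  set K := (F M).subgroupOf M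
  haveI : K.Normal := normal_subgroupOf_of_le_normalizer hn
  refine Nat.coprime_of_dvd fun p hp h1 h2 => ?_
  haveI := Fact.mk hp
  obtain ⟨⟨x, hxF⟩, hx⟩ := exists_prime_orderOf_dvd_card' p h1
  rw [orderOf_mk] at hx
  let x' : M := ⟨x, hFM hxF⟩
  have hx' : orderOf x' = p := by rw [orderOf_mk, hx]
  obtain ⟨P, hP⟩ := IsPGroup.exists_le_sylow (P := zpowers x') (p := p)
    (IsPGroup.of_card (n := 1) (by rw [Nat.card_zpowers, hx', pow_one]))
  have hx1 : x ≠ 1 := fun e => hp.one_lt.ne' (by rw [← hx, e, orderOf_one])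
  obtain ⟨z, -, hz1, hz⟩ := H11.CTI.exists_sylow_central P (hP (mem_zpowers x'))
    (fun e => hx1 (congrArg Subtype.val e))
  have hzK : z ∈ K := mem_subgroupOf.2 (cent_le h hM hxF hx1
    (mem_centralizer_singleton_iff.2 (congrArg Subtype.val (hz x' (hP (mem_zpowers x')))).symm))
  have hPK : (P : Subgroup M) ≤ K := fun u hu => mem_subgroupOf.2
    (cent_le h hM (mem_subgroupOf.1 hzK) (fun e => hz1 (Subtype.ext e))
      (mem_centralizer_singleton_iff.2 (congrArg Subtype.val (hz u hu))))
  exact P.not_dvd_index (h2.trans (index_dvd_of_le hPK))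

/-- `F M` is a proper nilpotent subgroup of `M`. -/
theorem nilpotent {M : Subgroup G} (hM : MaxS M) (hF : F M ≠ ⊥) :
    Group.IsNilpotent (F M) := by
  obtain ⟨hFM, hn, hfpf, hti, -⟩ := h M hM
  haveI := hM.1
  set K := (F M).subgroupOf M with hK
  haveI : K.Normal := normal_subgroupOf_of_le_normalizer hn
  by_cases hKtop : K = ⊤
  · -- then `M` is a Frobenius complement, and `G` is solvable
    exfalso
    have hMF : F M = M := le_antisymm hFM (subgroupOf_eq_top.1 hKtop)
    have hfr : Cfsg.IsFrobeniusComplement M := by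
      refine ⟨hMF ▸ hF, ne_top hns hM, fun g hg => ?_⟩
      rw [← hti g hg, hMF]
    obtain ⟨N, hN, hNn, hc⟩ := H2.exists_kernel hfr
    obtain ⟨N', hN', -, hnil⟩ := Cfsg.Agent.S0042.result M hfr
    obtain rfl : N' = N := SetLike.coe_injective (hN'.trans hN.symm)
    haveI := hNn
    haveI : Group.IsSolvable (G ⧸ N') :=
      Group.isSolvable_of_surjective (f := (QuotientGroup.mk' N').comp M.subtype) fun q => by
        obtain ⟨g, rfl⟩ := QuotientGroup.mk'_surjective N' q
        obtain ⟨m, hm, l, hl, rfl⟩ := H2.complement_decomp hc g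
        exact ⟨⟨l, hl⟩, by simp [(QuotientGroup.eq_one_iff m).2 hm]⟩
    exact hns (Group.isSolvable_of_ker_le_range N'.subtype (QuotientGroup.mk' N') (by simp))
  have hcard : Nat.card K = Nat.card (F M) :=
    Nat.card_congr (subgroupOfEquivOfLe hFM).toEquiv
  obtain ⟨L, hL⟩ := exists_right_complement'_of_coprime (N := K)
    (hcard ▸ coprime_index h hM)
  have hKb : K ≠ ⊥ := fun e => hF (by
    have h1 := (subgroupOf_eq_bot.1 e)
    rwa [disjoint_iff, inf_eq_left.2 hFM] at h1)
  have hLb : L ≠ ⊥ := fun e => hKtop (isComplement'_bot_right.1 (e ▸ hL))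
  have hfr := H2.frobenius_of_fpf hL hKb hLb fun l hl hl1 => by
    rw [eq_bot_iff]
    rintro k ⟨hk, hkc⟩
    refine mem_bot.2 (Subtype.ext ?_)
    exact hfpf l l.2 (fun hlF => hl1 (H2.complement_inf hL (mem_subgroupOf.2 hlF) hl)) k
      (mem_subgroupOf.1 hk) (congrArg Subtype.val (mem_centralizer_singleton_iff.1 hkc))
  obtain ⟨N, hN, -, hnil⟩ := Cfsg.Agent.S0042.result L hfr
  obtain rfl : N = K := SetLike.coe_injective (hN.trans (H2.coe_eq_frobeniusKernel hL hfr).symm)
  exact Group.nilpotent_of_mulEquiv (subgroupOfEquivOfLe hFM)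

/-- The structure used for the identification. -/
theorem exists_even : ∃ M : Subgroup G, H11.CTI.Even' M := by
  classical
  let S : Sylow 2 G := default
  obtain ⟨M, hM, hSM, hF⟩ := exists_good h hns S
  obtain ⟨hFM, hn, hfpf, hti, -⟩ := h M hM
  set K := (F M).subgroupOf M with hK
  haveI : K.Normal := normal_subgroupOf_of_le_normalizer hn
  have hnorm := norm_eq h hM hF
  have hcop := coprime_index h hM
  have hhall : ∀ g ∈ M, orderOf g ∣ Nat.card (F M) → g ∈ F M := by
    intro g hg ho
    have h1 : ((⟨g, hg⟩ : M) : M ⧸ K) = 1 := by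
      rw [← orderOf_eq_one_iff]
      exact Nat.eq_one_of_dvd_coprimes hcop
        (((orderOf_map_dvd (QuotientGroup.mk' K) _).trans (by rw [orderOf_mk])).trans ho)
        (orderOf_dvd_natCard _)
    exact mem_subgroupOf.1 ((QuotientGroup.eq_one_iff _).1 h1)
  -- the order of `F M` is even
  have h2 : 2 ∣ Nat.card (F M) := by
    by_contra h2
    haveI : Nontrivial G := by
      by_contra hnt
      rw [not_nontrivial_iff_subsingleton] at hnt
      exact hns inferInstance
    obtain ⟨t, -, ht⟩ := even_of_no_abelian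
      (fun A hA hc => @abelian_normal_eq_bot _ _ _ _ h hns A hA hc) ⊤ top_ne_bot
    obtain ⟨Q, hQ⟩ := IsPGroup.exists_le_sylow (P := zpowers t) (p := 2)
      (IsPGroup.of_card (n := 1) (by rw [Nat.card_zpowers, ht, pow_one]))
    have hS2 : 2 ∣ Nat.card (S : Subgroup G) := by
      have h3 := Subgroup.orderOf_dvd_natCard _ (hQ (mem_zpowers t))
      rwa [ht, Nat.card_congr (Q.equiv S).toEquiv] at h3
    have hKb : K ≠ ⊥ := fun e => hF (by
      have h1 := (subgroupOf_eq_bot.1 e)
      rwa [disjoint_iff, inf_eq_left.2 hFM] at h1)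
    obtain ⟨⟨s, hsS, hs, huniq, -⟩, -⟩ := H2.even_complement (K := K)
      (H := (S : Subgroup G).subgroupOf M) hKb (fun l hl hl1 => by
        rw [eq_bot_iff]
        rintro k ⟨hk, hkc⟩
        refine mem_bot.2 (Subtype.ext ?_)
        refine hfpf l l.2 (fun hlF => hl1 (Subtype.ext ?_)) k
          (mem_subgroupOf.1 hk) (congrArg Subtype.val (mem_centralizer_singleton_iff.1 hkc))
        by_contra hne
        obtain ⟨j, hj⟩ := IsPGroup.iff_orderOf.1 S.isPGroup' ⟨(l : G), mem_subgroupOf.1 hl⟩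
        rw [orderOf_mk] at hj
        rcases Nat.eq_zero_or_pos j with rfl | hj0
        · exact hne (orderOf_eq_one_iff.1 (by simpa using hj))
        · exact h2 ((hj ▸ dvd_pow_self 2 hj0.ne').trans (Subgroup.orderOf_dvd_natCard _ hlF)))
      (by rwa [Nat.card_congr (subgroupOfEquivOfLe hSM).toEquiv])
    rw [← Subgroup.orderOf_coe] at hs
    have huniq' : ∀ r ∈ (S : Subgroup G), orderOf r = 2 → r = s := fun r hr hr2 =>
      congrArg Subtype.val (huniq ⟨r, hSM hr⟩ (mem_subgroupOf.2 hr) (by rw [orderOf_mk, hr2]))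
    refine not_isolated h hns (t := (s : G)) ⟨hs, fun g hg => ?_⟩
    set a := g * (s : G) * g⁻¹
    have ha : orderOf a = 2 := (MulEquiv.orderOf_eq (MulAut.conj g) (s : G)).trans hs
    have hP : IsPGroup 2 (closure ({(s : G), a} : Set G)) := by
      haveI : IsMulCommutative (closure ({(s : G), a} : Set G)) :=
        isMulCommutative_closure fun x hx y hy => by
          rcases hx with rfl | rfl <;> rcases hy with rfl | rfl
          exacts [rfl, hg.eq, hg.eq.symm, rfl]
      rintro ⟨x, hx⟩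
      refine ⟨1, Subtype.ext ?_⟩
      show x ^ 2 ^ 1 = 1
      induction hx using closure_induction with
      | mem y hy =>
        rcases hy with rfl | rfl
        · rw [pow_one, ← hs, pow_orderOf_eq_one]
        · rw [pow_one, ← ha, pow_orderOf_eq_one]
      | one => simp
      | mul x y hx hy ihx ihy =>
        have : Commute x y := congrArg Subtype.val
          (mul_comm' (⟨x, hx⟩ : closure ({(s : G), a} : Set G)) ⟨y, hy⟩)
        rw [this.mul_pow, ihx, ihy, one_mul]
      | inv x _ ih => rw [inv_pow, ih, inv_one]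
    obtain ⟨R, hR⟩ := hP.exists_le_sylow
    obtain ⟨c, hc⟩ := MulAction.exists_smul_eq G R S
    have hmem : ∀ x ∈ (R : Subgroup G), c * x * c⁻¹ ∈ (S : Subgroup G) := by
      intro x hx
      rw [← hc, Sylow.coe_subgroup_smul, mem_conj_smul]
      simpa [mul_assoc] using hx
    have hcon : ∀ r : G, orderOf r = 2 → r ∈ (R : Subgroup G) → c * r * c⁻¹ = s := fun r hr hrR =>
      huniq' _ (hmem r hrR) ((MulEquiv.orderOf_eq (MulAut.conj c) r).trans hr)
    have h3 := (hcon a ha (hR (subset_closure (Or.inr rfl)))).trans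
      (hcon s hs (hR (subset_closure (Or.inl rfl)))).symm
    exact mul_left_cancel (mul_right_cancel h3)
  haveI := nilpotent h hns hM hF
  haveI : Nontrivial (F M) := (nontrivial_iff_ne_bot _).2 hF
  have hcomp : H11.CTI.IsComp (F M) := by
    refine ⟨fun x hx hx1 => cent_le h hM hx hx1, ?_⟩
    haveI : Nontrivial (center (F M)) := (nontrivial_iff_ne_bot _).2 (Group.IsNilpotent.center_ne_bot (G := F M))
    obtain ⟨⟨z, hz⟩, hz1⟩ := exists_ne (1 : center (F M))
    exact ⟨z, z.2, fun e => hz1 (Subtype.ext (Subtype.ext e)), fun m hm =>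
      congrArg Subtype.val (mem_center_iff.1 hz ⟨m, hm⟩)⟩
  obtain ⟨t, htF, ht⟩ := H65.exists_two_mem (even_iff_two_dvd.2 h2)
  refine ⟨F M, hnorm.symm ▸ hhall, fun K hK hne => @even_of_no_abelian _ _ _
    (fun A hA hc => @abelian_normal_eq_bot _ _ _ _ h hns A hA hc) K hK hne, hcomp,
    ⟨t, htF, ht⟩, ?_, ?_⟩
  · rw [hnorm, H65.se_iff (ne_top hns hM) (H65.even_card_of_mem (hFM htF) ht)]
    intro s g hs hsM hg
    by_contra hgM
    have h1 : s ∈ F M := hhall s hsM (hs ▸ h2)
    have h3 : g⁻¹ * s * g ∈ F M := hhall _ hg (by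
      rw [show g⁻¹ * s * g = MulAut.conj g⁻¹ s by simp, MulEquiv.orderOf_eq, hs]
      exact h2)
    have h4 : s = 1 := mem_bot.1 (hti g hgM ▸ mem_inf.2 ⟨h1, mem_conj_smul.2 h3⟩)
    rw [h4, orderOf_one] at hs
    norm_num at hs
  · by_contra hone
    push Not at hone
    refine not_isolated h hns (t := t) ⟨ht, fun g hg => ?_⟩
    exact (hone t htF (g * t * g⁻¹) (hcomp.cent t htF
      (fun e => by rw [e, orderOf_one] at ht; norm_num at ht)
      (mem_centralizer_singleton_iff.2 hg.eq.symm)) ht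
      ((MulEquiv.orderOf_eq (MulAut.conj g) t).trans ht)).symm

end H11.FrobSys
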